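import Groth.Agent.LieTorusLib.Grade
import Groth.Prelude.Def_LieS
import Mathlib.Algebra.Lie.Nilpotent

/-!
# The bracket with the Lie algebra of a torus, and nilpotency
-/

set_option autoImplicit false
set_option linter.style.haveILetI false
set_option backward.isDefEq.respectTransparency false
set_option synthInstance.maxSize 4000
set_option maxSynthPendingDepth 4

noncomputable section

universe u v

open CategoryTheory MonoidalCategory CartesianMonoidalCategory AlgebraicGeometry CoactBr WithConv
open scoped MonObj TensorProduct DualNumber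

attribute [-instance] CategoryTheory.Hom.commGroup

namespace Groth.Agent.LieTorus

attribute [local instance] CoactBr.braidedAlgSpecOf

open Groth.Agent.RCentre

section ring

variable {k : Type u} [CommRing k]

/-- The algebra of dual numbers, with one spelling for all rings of scalars. -/
@[reducible] def algD (B : Type u) [CommRing B] [Algebra k B] : Algebra k (DualNumber B) := inferInstance

attribute [local instance high] algD

/-- The base of the test schemes. -/
abbrev f0 (k : Type u) [CommRing k] : Spec (CommRingCat.of k) ⟶ Spec (CommRingCat.of k) :=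
  Spec.map (CommRingCat.ofHom (algebraMap k k))

theorem toD2_eq (k : Type u) [CommRing k] : LieS.toD2 k = algebraMap k (LieS.D2 k) :=
  LieS.algebraMap_comp_eq (R := k) (DualNumber k)

/-- A scheme over the field given by a ring map, as the spectrum of an algebra. -/
def mkIso (C : Type u) [CommRing C] [Algebra k C] (g : Spec (CommRingCat.of C) ⟶ Spec (CommRingCat.of k))
    (h : g = Spec.map (CommRingCat.ofHom (algebraMap k C))) : Over.mk g ≅ sp k C :=
  Over.isoMk (Iso.refl (Spec (CommRingCat.of C))) (by subst h; exact Category.id_comp _)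

section generic

variable {B C : Type u} [CommRing B] [Algebra k B] [CommRing C] [Algebra k C]

theorem dpt_eq (B : Type u) [CommRing B] [Algebra k B] (g : Spec (CommRingCat.of B) ⟶ Spec (CommRingCat.of k))
    (hg : g = Spec.map (CommRingCat.ofHom (algebraMap k B))) :
    Spec.map (CommRingCat.ofHom (algebraMap B (DualNumber B))) ≫ g =
      Spec.map (CommRingCat.ofHom (algebraMap k (DualNumber B))) := by
  rw [hg, LieS.specMap_comp, LieS.algebraMap_comp_eq]

/-- The dual numbers over an algebra, as the spectrum of an algebra. -/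
def jG (B : Type u) [CommRing B] [Algebra k B] (g : Spec (CommRingCat.of B) ⟶ Spec (CommRingCat.of k))
    (hg : g = Spec.map (CommRingCat.ofHom (algebraMap k B))) : LieS.dpt B g ≅ sp k (DualNumber B) :=
  mkIso _ _ (dpt_eq B g hg)

/-- Base change of the dual numbers. -/
def oHomG (h : B →ₐ[k] C) : DualNumber B →ₐ[k] DualNumber C :=
  { LieS.bcHom (h : B →+* C) with
    commutes' := fun c => by
      show LieS.bcHom (h : B →+* C) (algebraMap k (DualNumber B) c) = algebraMap k (DualNumber C) c
      simp [LieS.bcHom, TrivSqZeroExt.algebraMap_eq_inl'] }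

/-- The constants of the dual numbers. -/
def iHomG : B →ₐ[k] DualNumber B :=
  { algebraMap B (DualNumber B) with
    commutes' := fun c => RingHom.congr_fun (LieS.algebraMap_comp_eq (R := k) B) c }

/-- Reading in the product of the coordinates. -/
def mHomG : DualNumber B →ₐ[k] DualNumber (DualNumber B) :=
  { LieS.mulHom B with
    commutes' := fun c => by
      show LieS.mulHom B (algebraMap k (DualNumber B) c) = _
      simp [LieS.mulHom, TrivSqZeroExt.algebraMap_eq_inl'] }

theorem proj_g (g : Spec (CommRingCat.of B) ⟶ Spec (CommRingCat.of k))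
    (hg : g = Spec.map (CommRingCat.ofHom (algebraMap k B))) :
    LieS.proj B g = (jG B g hg).hom ≫ pt (iHomG (k := k)) ≫ (mkIso B g hg).inv := by
  have a : (jG B g hg).hom.left = 𝟙 (Spec (CommRingCat.of (DualNumber B))) := rfl
  have b : (mkIso B g hg).inv.left = 𝟙 (Spec (CommRingCat.of B)) := rfl
  refine Over.OverMorphism.ext ?_
  rw [Over.comp_left, Over.comp_left, CoactBr.pt_left]
  erw [a, b, Category.id_comp, Category.comp_id]
  rfl

theorem zeroSec_g (g : Spec (CommRingCat.of B) ⟶ Spec (CommRingCat.of k))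
    (hg : g = Spec.map (CommRingCat.ofHom (algebraMap k B))) :
    LieS.zeroSec B g = (mkIso B g hg).hom ≫ pt ((TrivSqZeroExt.fstHom B B B).restrictScalars k) ≫
      (jG B g hg).inv := by
  have a : (jG B g hg).inv.left = 𝟙 (Spec (CommRingCat.of (DualNumber B))) := rfl
  have b : (mkIso B g hg).hom.left = 𝟙 (Spec (CommRingCat.of B)) := rfl
  refine Over.OverMorphism.ext ?_
  rw [Over.comp_left, Over.comp_left, CoactBr.pt_left]
  erw [a, b, Category.id_comp, Category.comp_id]
  rfl

theorem dptMap_eq (g : Spec (CommRingCat.of B) ⟶ Spec (CommRingCat.of k))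
    (hg : g = Spec.map (CommRingCat.ofHom (algebraMap k B))) (h : B →ₐ[k] C) :
    Spec.map (CommRingCat.ofHom (h : B →+* C)) ≫ g = Spec.map (CommRingCat.ofHom (algebraMap k C)) := by
  rw [hg, LieS.specMap_comp]
  congr 2
  exact AlgHom.comp_algebraMap h

theorem dptMap_g (g : Spec (CommRingCat.of B) ⟶ Spec (CommRingCat.of k))
    (hg : g = Spec.map (CommRingCat.ofHom (algebraMap k B))) (h : B →ₐ[k] C) :
    LieS.dptMap g (h : B →+* C) = (jG C _ (dptMap_eq g hg h)).hom ≫ pt (oHomG h) ≫ (jG B g hg).inv := by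
  have a : (jG C _ (dptMap_eq g hg h)).hom.left = 𝟙 (Spec (CommRingCat.of (DualNumber C))) := rfl
  have b : (jG B g hg).inv.left = 𝟙 (Spec (CommRingCat.of (DualNumber B))) := rfl
  refine Over.OverMorphism.ext ?_
  rw [Over.comp_left, Over.comp_left, CoactBr.pt_left]
  erw [a, b, Category.id_comp, Category.comp_id]
  rfl

theorem mulMap_g (g : Spec (CommRingCat.of B) ⟶ Spec (CommRingCat.of k))
    (hg : g = Spec.map (CommRingCat.ofHom (algebraMap k B))) :
    LieS.mulMap B g = (jG (DualNumber B) (LieS.dpt B g).hom (dpt_eq B g hg)).hom ≫ pt (mHomG (k := k)) ≫ (jG B g hg).inv := by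
  have a : (jG (DualNumber B) (LieS.dpt B g).hom (dpt_eq B g hg)).hom.left = 𝟙 (Spec (CommRingCat.of (LieS.D2 B))) := rfl
  have b : (jG B g hg).inv.left = 𝟙 (Spec (CommRingCat.of (DualNumber B))) := rfl
  refine Over.OverMorphism.ext ?_
  rw [Over.comp_left, Over.comp_left, CoactBr.pt_left]
  erw [a, b, Category.id_comp, Category.comp_id]
  rfl

theorem dptMap_alg_g (g : Spec (CommRingCat.of B) ⟶ Spec (CommRingCat.of k))
    (hg : g = Spec.map (CommRingCat.ofHom (algebraMap k B))) :
    LieS.dptMap g (algebraMap B (DualNumber B)) =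
      (jG (DualNumber B) (LieS.dpt B g).hom (dpt_eq B g hg)).hom ≫ pt (oHomG (iHomG (k := k))) ≫
        (jG B g hg).inv :=
  dptMap_g g hg (iHomG (k := k))

theorem zeroSec_comp_g (g : Spec (CommRingCat.of B) ⟶ Spec (CommRingCat.of k))
    (hg : g = Spec.map (CommRingCat.ofHom (algebraMap k B))) {X : Over (Spec (CommRingCat.of k))}
    (ψ : sp k (DualNumber B) ⟶ X) :
    LieS.zeroSec B g ≫ (jG B g hg).hom ≫ ψ =
      (mkIso B g hg).hom ≫ pt ((TrivSqZeroExt.fstHom B B B).restrictScalars k) ≫ ψ := by
  rw [zeroSec_g g hg]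
  simp only [Category.assoc, Iso.inv_hom_id_assoc]

theorem proj_comp_g (g : Spec (CommRingCat.of B) ⟶ Spec (CommRingCat.of k))
    (hg : g = Spec.map (CommRingCat.ofHom (algebraMap k B))) {X : Over (Spec (CommRingCat.of k))}
    (ψ : sp k B ⟶ X) :
    LieS.proj B g ≫ (mkIso B g hg).hom ≫ ψ = (jG B g hg).hom ≫ pt (iHomG (k := k)) ≫ ψ := by
  rw [proj_g g hg]
  simp only [Category.assoc, Iso.inv_hom_id_assoc]

theorem dptMap_comp_g (g : Spec (CommRingCat.of B) ⟶ Spec (CommRingCat.of k))
    (hg : g = Spec.map (CommRingCat.ofHom (algebraMap k B))) {X : Over (Spec (CommRingCat.of k))}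
    (ψ : sp k (DualNumber B) ⟶ X) :
    LieS.dptMap g (algebraMap B (DualNumber B)) ≫ (jG B g hg).hom ≫ ψ =
      (jG (DualNumber B) (LieS.dpt B g).hom (dpt_eq B g hg)).hom ≫ pt (oHomG (iHomG (k := k))) ≫ ψ := by
  rw [dptMap_alg_g g hg]
  simp only [Category.assoc, Iso.inv_hom_id_assoc]

theorem proj2_comp_g (g : Spec (CommRingCat.of B) ⟶ Spec (CommRingCat.of k))
    (hg : g = Spec.map (CommRingCat.ofHom (algebraMap k B))) {X : Over (Spec (CommRingCat.of k))}
    (ψ : sp k (DualNumber B) ⟶ X) :
    LieS.proj (DualNumber B) (LieS.dpt B g).hom ≫ (jG B g hg).hom ≫ ψ =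
      (jG (DualNumber B) (LieS.dpt B g).hom (dpt_eq B g hg)).hom ≫ pt (iHomG (k := k)) ≫ ψ :=
  proj_comp_g (LieS.dpt B g).hom (dpt_eq B g hg) ψ

theorem mulMap_comp_g (g : Spec (CommRingCat.of B) ⟶ Spec (CommRingCat.of k))
    (hg : g = Spec.map (CommRingCat.ofHom (algebraMap k B))) {X : Over (Spec (CommRingCat.of k))}
    (ψ : sp k (DualNumber B) ⟶ X) :
    LieS.mulMap B g ≫ (jG B g hg).hom ≫ ψ =
      (jG (DualNumber B) (LieS.dpt B g).hom (dpt_eq B g hg)).hom ≫ pt (mHomG (k := k)) ≫ ψ := by
  rw [mulMap_g g hg]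
  simp only [Category.assoc, Iso.inv_hom_id_assoc]

end generic

variable {A : Type u} [CommRing A] [HopfAlgebra k A]

/-- The unit point. -/
abbrev one' (C : Type u) [CommRing C] [Algebra k C] : A →ₐ[k] C :=
  (Algebra.ofId k C).comp (Bialgebra.counitAlgHom k A)

/-- Two points which differ from the unit in directions of vanishing product multiply additively. -/
theorem conv_eq_add {C : Type u} [CommRing C] [Algebra k C] (p q : A →ₐ[k] C)
    (h : ∀ a b : A, (p a - one' (k := k) (A := A) C a) * (q b - one' (k := k) (A := A) C b) = 0) (a : A) :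
    (toConv p * toConv q).ofConv a = p a + q a - one' (k := k) (A := A) C a := by
  have h1 : ∀ z : A ⊗[k] A,
      Algebra.TensorProduct.lift p q (fun _ _ => Commute.all _ _) z =
        Algebra.TensorProduct.lift p (one' C) (fun _ _ => Commute.all _ _) z +
          Algebra.TensorProduct.lift (one' C) q (fun _ _ => Commute.all _ _) z -
          Algebra.TensorProduct.lift (one' C) (one' C) (fun _ _ => Commute.all _ _) z := fun z => by
    induction z using TensorProduct.induction_on with
    | zero => simp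
    | add z w hz hw => simp only [map_add, hz, hw]; ring
    | tmul x y =>
      show p x * q y = p x * one' (k := k) (A := A) C y + one' (k := k) (A := A) C x * q y -
        one' (k := k) (A := A) C x * one' (k := k) (A := A) C y
      linear_combination h x y
  have hc : ∀ (r s : A →ₐ[k] C), (toConv r * toConv s).ofConv a =
      Algebra.TensorProduct.lift r s (fun _ _ => Commute.all _ _) (CoalgebraStruct.comul (R := k) a) := fun r s => by
    show (toConv r * toConv s) a = _
    rw [AlgHom.convMul_apply]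
  have hone : toConv (one' (k := k) (A := A) C) = 1 := by
    refine WithConv.ext (AlgHom.ext fun x => ?_)
    rw [AlgHom.convOne_apply]
    rfl
  rw [hc, h1, ← hc, ← hc, ← hc, hone, _root_.mul_one, _root_.one_mul]
  have : (1 * 1 : WithConv (A →ₐ[k] C)).ofConv a = one' (k := k) (A := A) C a := by
    rw [_root_.one_mul, ← hone]
  rw [this]

variable {G : Over (Spec (CommRingCat.of k))} [GrpObj G] (v : sp k A ≅ G) [IsMonHom v.hom]

/-- The functions of a tangent point. -/
def tfn (g : LieS.dpt k (f0 k) ⟶ G) : A →ₐ[k] DualNumber k :=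
  (DiagRep.exists_pt ((jG k (f0 k) rfl).inv ≫ g ≫ v.inv)).choose

omit [IsMonHom v.hom] [GrpObj G] in
theorem pt_tfn (g : LieS.dpt k (f0 k) ⟶ G) : (jG k (f0 k) rfl).hom ≫ pt (tfn v g) ≫ v.hom = g := by
  rw [show pt (tfn v g) = (jG k (f0 k) rfl).inv ≫ g ≫ v.inv from
    (DiagRep.exists_pt ((jG k (f0 k) rfl).inv ≫ g ≫ v.inv)).choose_spec.symm]
  simp

omit [IsMonHom v.hom] [GrpObj G] in
theorem tfn_pt (φ : A →ₐ[k] DualNumber k) : tfn v ((jG k (f0 k) rfl).hom ≫ pt φ ≫ v.hom) = φ := by
  refine pt_injective ?_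
  have := pt_tfn v ((jG k (f0 k) rfl).hom ≫ pt φ ≫ v.hom)
  rw [cancel_epi, cancel_mono] at this
  exact this

theorem tfn_one : tfn v (1 : LieS.dpt k (f0 k) ⟶ G) = one' (DualNumber k) := by
  conv_lhs => rw [show (1 : LieS.dpt k (f0 k) ⟶ G) = (jG k (f0 k) rfl).hom ≫ pt (one' (DualNumber k)) ≫ v.hom by
    rw [DiagRep.pt_one, MonObj.one_comp, MonObj.comp_one]]
  rw [tfn_pt]

theorem mem_Lie_iff_fst (φ : A →ₐ[k] DualNumber k) :
    ((jG k (f0 k) rfl).hom ≫ pt φ ≫ v.hom : LieS.dpt k (f0 k) ⟶ G) ∈ LieS.Lie G k (f0 k) ↔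
      ∀ a, (φ a).fst = CoalgebraStruct.counit (R := k) a := by
  have h1 : (((mkIso k (f0 k) rfl).hom ≫ pt (((TrivSqZeroExt.fstHom k k k).restrictScalars k).comp φ) ≫ v.hom :
      LieS.pt k (f0 k) ⟶ G) = 1) ↔
      ((TrivSqZeroExt.fstHom k k k).restrictScalars k).comp φ = one' k := by
    constructor
    · intro h
      refine pt_injective ?_
      rw [DiagRep.pt_one, ← cancel_epi (mkIso k (f0 k) rfl).hom, ← cancel_mono v.hom, Category.assoc, h, MonObj.comp_one,
        MonObj.one_comp]
    · intro h
      rw [h, DiagRep.pt_one, MonObj.one_comp, MonObj.comp_one]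
  rw [LieS.mem_Lie_iff, zeroSec_comp_g (f0 k) rfl]
  rw [← reassoc_of% CoactBr.pt_comp, h1, DFunLike.ext_iff]
  simp [Algebra.ofId_apply]

theorem fst_tfn (g : LieS.Lie G k (f0 k)) (a : A) :
    (tfn v g.1 a).fst = CoalgebraStruct.counit (R := k) a :=
  (mem_Lie_iff_fst v _).1 (by rw [pt_tfn]; exact g.2) a

variable {M : Type} [AddCommGroup M] (i : sp k (MonoidAlgebra k (Multiplicative M)) ⟶ sp k A) [IsMonHom i]

/-- The tangent point of the torus attached to an additive functional on the characters. -/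
def tanT (δ : M →+ k) : MonoidAlgebra k (Multiplicative M) →ₐ[k] DualNumber k :=
  MonoidAlgebra.lift k (DualNumber k) (Multiplicative M)
    { toFun := fun m => 1 + δ (Multiplicative.toAdd m) • (DualNumber.eps : DualNumber k)
      map_one' := by simp
      map_mul' := fun a b => by
        rw [toAdd_mul, map_add, add_smul]
        have h : (δ (Multiplicative.toAdd a) • (DualNumber.eps : DualNumber k)) *
            (δ (Multiplicative.toAdd b) • DualNumber.eps) = 0 := by
          rw [smul_mul_smul_comm, DualNumber.eps_mul_eps, smul_zero]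
        linear_combination (-1 : DualNumber k) * h }

omit [IsMonHom i] in
theorem tanT_single (δ : M →+ k) (m : Multiplicative M) :
    tanT δ (MonoidAlgebra.single m 1) = 1 + δ (Multiplicative.toAdd m) • (DualNumber.eps : DualNumber k) := by
  simp [tanT]

omit [IsMonHom i] in
theorem bracket_pts {B : Type u} [CommRing B] [Algebra k B] (g : Spec (CommRingCat.of B) ⟶ Spec (CommRingCat.of k))
    (hg : g = Spec.map (CommRingCat.ofHom (algebraMap k B))) (X Y Z : A →ₐ[k] DualNumber B)
    (x y z : LieS.Lie G B g) (hX : x.1 = (jG B g hg).hom ≫ pt X ≫ v.hom)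
    (hY : y.1 = (jG B g hg).hom ≫ pt Y ≫ v.hom) (hZ : z.1 = (jG B g hg).hom ≫ pt Z ≫ v.hom)
    (hb : LieS.IsBracket G B g x y z) :
    pt (mHomG.comp Z) * pt (iHomG.comp Y) =
      pt ((oHomG iHomG).comp X) * pt (iHomG.comp Y) * (pt ((oHomG iHomG).comp X))⁻¹ := by
  unfold LieS.IsBracket at hb
  rw [hX, hY, hZ, mulMap_comp_g g hg, dptMap_comp_g g hg, proj2_comp_g g hg] at hb
  simp only [← reassoc_of% CoactBr.pt_comp, ← MonObj.comp_mul, ← GrpObj.comp_inv] at hb
  rw [cancel_epi] at hb
  simp only [GrpObj.comp_inv, ← MonObj.mul_comp, ← GrpObj.inv_comp] at hb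
  rw [cancel_mono, eq_mul_inv_iff_mul_eq] at hb
  exact hb

omit [IsMonHom i] in
theorem cross_zero (z w : DualNumber k) :
    (mHomG (k := k) (B := k) z - algebraMap k (LieS.D2 k) z.fst) *
      (iHomG (k := k) (B := DualNumber k) w - algebraMap k (LieS.D2 k) w.fst) = 0 := by
  show (LieS.mulHom k z - algebraMap k (LieS.D2 k) z.fst) *
    (algebraMap (DualNumber k) (LieS.D2 k) w - algebraMap k (LieS.D2 k) w.fst) = 0
  rw [← toD2_eq]
  refine TrivSqZeroExt.ext (TrivSqZeroExt.ext ?_ ?_) (TrivSqZeroExt.ext ?_ ?_) <;>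
    simp [LieS.mulHom, LieS.toD2, TrivSqZeroExt.algebraMap_eq_inl', DualNumber.fst_eps, DualNumber.snd_eps,
      DualNumber.snd_mul]

omit [IsMonHom i] in
theorem solve_bracket (z w : DualNumber k) (c : k) (hz : z.fst = 0) (hw : w.fst = 0)
    (h : mHomG (k := k) (B := k) z + iHomG (k := k) (B := DualNumber k) w - algebraMap k (LieS.D2 k) 0 =
      iHomG (k := k) (B := DualNumber k) w *
        oHomG (iHomG (k := k) (B := k)) (1 + c • (DualNumber.eps : DualNumber k))) :
    z.snd = c * w.snd := by
  have e : oHomG (iHomG (k := k) (B := k)) (1 + c • (DualNumber.eps : DualNumber k)) =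
      1 + algebraMap k (LieS.D2 k) c * (DualNumber.eps : LieS.D2 k) := by
    rw [map_add, map_one, map_smul, Algebra.smul_def]
    congr 2
    show LieS.bcHom (algebraMap k (DualNumber k)) DualNumber.eps = _
    simp [LieS.bcHom]
  rw [e] at h
  change LieS.mulHom k z + algebraMap (DualNumber k) (LieS.D2 k) w - algebraMap k (LieS.D2 k) 0 =
    algebraMap (DualNumber k) (LieS.D2 k) w * (1 + algebraMap k (LieS.D2 k) c * DualNumber.eps) at h
  rw [← toD2_eq] at h
  have h' := congrArg (fun x : LieS.D2 k => x.snd.snd) h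
  simp [LieS.mulHom, LieS.toD2, TrivSqZeroExt.algebraMap_eq_inl', DualNumber.fst_eps, DualNumber.snd_eps,
    DualNumber.snd_mul, hz, hw] at h'
  rw [mul_comm c]
  exact h'

/-- The bracket with a tangent vector of the torus multiplies the values at a weight vector by the derivative of the
weight. -/
theorem bracket_weight {L : Type v} [LieRing L] [LieAlgebra k L] (m : LieS.Model G k (f0 k) L) (δ : M →+ k)
    (x y : L) (hx : tfn v (m.e (Multiplicative.ofAdd x)).1 = (tanT δ).comp
      ((DiagRep.exists_pt i).choose : A →ₐ[k] MonoidAlgebra k (Multiplicative M)))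
    (a : A) {n : Multiplicative M} (hw : CoalgebraStruct.counit (R := k) (wt i a n) = 0) :
    (tfn v (m.e (Multiplicative.ofAdd ⁅x, y⁆)).1 (wt i a n)).snd =
      δ (Multiplicative.toAdd n) * (tfn v (m.e (Multiplicative.ofAdd y)).1 (wt i a n)).snd := by
  let φi : A →ₐ[k] MonoidAlgebra k (Multiplicative M) := (DiagRep.exists_pt i).choose
  have hφi : i = pt φi := (DiagRep.exists_pt i).choose_spec
  let X := tfn v (m.e (Multiplicative.ofAdd x)).1
  let Y := tfn v (m.e (Multiplicative.ofAdd y)).1
  let Z := tfn v (m.e (Multiplicative.ofAdd ⁅x, y⁆)).1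
  have hb := bracket_pts v (f0 k) rfl X Y Z _ _ _ (pt_tfn v _).symm (pt_tfn v _).symm (pt_tfn v _).symm (m.e_lie x y)
  have hconj := pair_coact i (𝟙 (sp k (LieS.D2 k))) ((iHomG (k := k) (B := DualNumber k)).comp Y) ((oHomG (iHomG (k := k) (B := k))).comp (tanT δ))
  simp only [Category.id_comp] at hconj
  have hXi : pt ((oHomG (iHomG (k := k) (B := k))).comp (tanT δ)) ≫ i = pt ((oHomG (iHomG (k := k) (B := k))).comp X) := by
    rw [hφi, ← CoactBr.pt_comp]
    congr 1
    show _ = (oHomG (iHomG (k := k) (B := k))).comp (tfn v _)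
    rw [hx]
    rfl
  rw [hXi, ← hb, DiagRep.pt_mul_conv] at hconj
  have h := DFunLike.congr_fun (pt_injective hconj).symm (wt i a n)
  rw [conv_eq_add _ _ ?_] at h
  rotate_left
  · intro b c
    have h0 := cross_zero (k := k) (tfn v (m.e (Multiplicative.ofAdd ⁅x, y⁆)).1 b)
      (tfn v (m.e (Multiplicative.ofAdd y)).1 c)
    rw [fst_tfn v, fst_tfn v] at h0
    exact h0
  simp only [AlgHom.comp_apply] at h
  rw [coact_wt, Algebra.TensorProduct.lift_tmul] at h
  simp only [AlgHom.comp_apply, tanT_single, Bialgebra.counitAlgHom_apply, Algebra.ofId_apply, hw] at h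
  exact solve_bracket _ _ _ ((fst_tfn v _ _).trans hw) ((fst_tfn v _ _).trans hw) h

end ring

variable {k : Type u} [Field k] {A : Type u} [CommRing A] [HopfAlgebra k A] {G : Over (Spec (CommRingCat.of k))}
  [GrpObj G] (v : sp k A ≅ G) [IsMonHom v.hom] {M : Type} [AddCommGroup M]
  (i : sp k (MonoidAlgebra k (Multiplicative M)) ⟶ sp k A) [IsMonHom i]

include v in
/-- With a nilpotent Lie algebra, the weights of the cotangent space at the unit vanish on the tangent space of the
torus. -/
theorem wt_mem_sq {L : Type v} [LieRing L] [LieAlgebra k L] (m : LieS.Model G k (f0 k) L)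
    (hL : LieRing.IsNilpotent L) (δ : M →+ k) (a : A) (n : Multiplicative M)
    (hδ : δ (Multiplicative.toAdd n) = 1) :
    wt i a n ∈ (RingHom.ker (Bialgebra.counitAlgHom k A)) ^ 2 := by
  classical
  have hn : n ≠ 1 := fun h => by simp [h] at hδ
  let me : Ideal A := RingHom.ker (Bialgebra.counitAlgHom k A)
  let w := wt i a n
  let e0 := Bialgebra.counitAlgHom k A
  by_contra hw
  let W : Submodule k A := (me ^ 2).restrictScalars k ⊔ Submodule.span k {1}
  have hwW : w ∉ W := fun h => by
    obtain ⟨u, hu, c, hc, huc⟩ := Submodule.mem_sup.1 h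
    obtain ⟨r, rfl⟩ := Submodule.mem_span_singleton.1 hc
    have h0 : e0 u = 0 := Ideal.pow_le_self two_ne_zero hu
    have h1 : r = 0 := by
      have h2 : e0 w = 0 := counit_wt_field i a hn
      rw [← huc, map_add, h0, zero_add, map_smul, map_one, smul_eq_mul, _root_.mul_one] at h2
      exact h2
    rw [h1, zero_smul, add_zero] at huc
    exact hw (show w ∈ me ^ 2 from huc ▸ hu)
  obtain ⟨g, hgw, hg⟩ := Submodule.exists_dual_map_eq_bot_of_notMem hwW inferInstance
  have hg' : ∀ u ∈ W, g u = 0 := fun u hu => by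
    have : g u ∈ W.map g := Submodule.mem_map_of_mem hu
    rwa [hg, Submodule.mem_bot] at this
  let y : A →ₗ[k] k := (g w)⁻¹ • g
  have hy1 : y 1 = 0 := by
    simp [y, hg' 1 (Submodule.mem_sup_right (Submodule.mem_span_singleton_self 1))]
  have hy2 : ∀ p q, y (p * q) = e0 p * y q + e0 q * y p := fun p q => by
    have h2 : (p - algebraMap k A (e0 p)) * (q - algebraMap k A (e0 q)) ∈ me ^ 2 := by
      rw [pow_two]
      exact Ideal.mul_mem_mul (by simp [me, e0, RingHom.mem_ker]) (by simp [me, e0, RingHom.mem_ker])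
    have h3 : g ((p - algebraMap k A (e0 p)) * (q - algebraMap k A (e0 q))) = 0 :=
      hg' _ (Submodule.mem_sup_left h2)
    have h4 : g 1 = 0 := hg' 1 (Submodule.mem_sup_right (Submodule.mem_span_singleton_self 1))
    have h5 : (p - algebraMap k A (e0 p)) * (q - algebraMap k A (e0 q)) =
        p * q - e0 q • p - e0 p • q + (e0 p * e0 q) • (1 : A) := by
      simp only [Algebra.smul_def, map_mul]; ring
    rw [h5, map_add, map_sub, map_sub, map_smul, map_smul, map_smul, h4] at h3
    simp only [smul_eq_mul, mul_zero, add_zero] at h3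
    simp only [y, LinearMap.smul_apply, smul_eq_mul]
    linear_combination (g w)⁻¹ * h3
  let φ : A →ₐ[k] DualNumber k :=
    AlgHom.ofLinearMap
      { toFun := fun p => TrivSqZeroExt.inl (e0 p) + TrivSqZeroExt.inr (y p)
        map_add' := fun p q => TrivSqZeroExt.ext (by simp) (by simp)
        map_smul' := fun c p => TrivSqZeroExt.ext (by simp) (by simp) }
      (TrivSqZeroExt.ext (by simp) (by simp [hy1]))
      (fun p q => TrivSqZeroExt.ext (by simp) (by simp [hy2, DualNumber.snd_mul, mul_comm, add_comm]))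
  let yL : LieS.Lie G k (f0 k) := ⟨(jG k (f0 k) rfl).hom ≫ pt φ ≫ v.hom, (mem_Lie_iff_fst v φ).2 fun p => by simp [φ, e0]⟩
  let φi : A →ₐ[k] MonoidAlgebra k (Multiplicative M) := (DiagRep.exists_pt i).choose
  have hφi : i = pt φi := (DiagRep.exists_pt i).choose_spec
  let xL : LieS.Lie G k (f0 k) := ⟨(jG k (f0 k) rfl).hom ≫ pt ((tanT δ).comp φi) ≫ v.hom,
    (mem_Lie_iff_fst v _).2 fun p => by
      have e1 : (TrivSqZeroExt.fstHom k k k).comp (tanT δ) =
          Bialgebra.counitAlgHom k (MonoidAlgebra k (Multiplicative M)) :=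
        MonoidAlgebra.algHom_ext (fun q => by simp [tanT_single, MonoidAlgebra.counit_single])
          (AlgHom.ext fun c => (AlgHom.commutes _ c).trans (AlgHom.commutes _ c).symm)
      haveI : IsMonHom (pt φi) := hφi ▸ inferInstance
      exact (DFunLike.congr_fun e1 (φi p)).trans (DFunLike.congr_fun (DiagRep.counit_comp_of_isMonHom φi) p)⟩
  let x : L := Multiplicative.toAdd (m.e.symm xL)
  let y₀ : L := Multiplicative.toAdd (m.e.symm yL)
  have hx : tfn v (m.e (Multiplicative.ofAdd x)).1 = (tanT δ).comp φi := by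
    show tfn v (m.e (m.e.symm xL)).1 = _
    rw [MulEquiv.apply_symm_apply]
    exact tfn_pt v _
  have hy0 : (tfn v (m.e (Multiplicative.ofAdd y₀)).1 w).snd = 1 := by
    show (tfn v (m.e (m.e.symm yL)).1 w).snd = 1
    rw [MulEquiv.apply_symm_apply, tfn_pt]
    simp [φ, y, inv_mul_cancel₀ hgw]
  have hit : ∀ j : ℕ, (tfn v (m.e (Multiplicative.ofAdd (((LieModule.toEnd k L L x) ^ j) y₀))).1 w).snd = 1 := by
    intro j
    induction j with
    | zero => rw [pow_zero, Module.End.one_apply]; exact hy0
    | succ j ih =>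
      rw [pow_succ', Module.End.mul_apply, LieModule.toEnd_apply_apply, bracket_weight v i m δ x _ hx a (counit_wt_field i a hn), hδ,
        _root_.one_mul]
      exact ih
  haveI : LieModule.IsNilpotent L L := hL
  obtain ⟨N, hN⟩ := LieModule.isNilpotent_toEnd_of_isNilpotent k L L x
  have := hit N
  rw [hN, LinearMap.zero_apply, ofAdd_zero, map_one, Subgroup.coe_one, tfn_one] at this
  simp [TrivSqZeroExt.algebraMap_eq_inl'] at this

end Groth.Agent.LieTorus
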