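import Groth.Agent.RCentreLib.Weights
import Mathlib.RingTheory.Filtration

/-!
# The grading of the functions by conjugation with a torus
-/

set_option autoImplicit false
set_option linter.style.haveILetI false
set_option backward.isDefEq.respectTransparency false
set_option synthInstance.maxSize 4000
set_option maxSynthPendingDepth 4

noncomputable section

universe u

open CategoryTheory MonoidalCategory CartesianMonoidalCategory AlgebraicGeometry CoactBr WithConv
open scoped MonObj TensorProduct

attribute [-instance] CategoryTheory.Hom.commGroup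

namespace Groth.Agent.LieTorus

attribute [local instance] CoactBr.braidedAlgSpecOf

open Groth.Agent.RCentre

section grading

variable {R : Type u} [CommRing R] {A : Type u} [CommRing A] [HopfAlgebra R A] {M : Type} [AddCommGroup M]
  (i : sp R (MonoidAlgebra R (Multiplicative M)) ⟶ sp R A) [IsMonHom i]

local notation "L" => MonoidAlgebra R (Multiplicative M)

/-- The product of the two points of the torus. -/
def prodPt : L →ₐ[R] (A ⊗[R] L) ⊗[R] L :=
  let β' : L →ₐ[R] (A ⊗[R] L) ⊗[R] L := Algebra.TensorProduct.includeRight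
  let β : L →ₐ[R] (A ⊗[R] L) ⊗[R] L :=
    (Algebra.TensorProduct.includeLeft).comp Algebra.TensorProduct.includeRight
  (toConv β' * toConv β).ofConv

omit [IsMonHom i] in
theorem prodPt_single (n : Multiplicative M) :
    (prodPt (A := A) : L →ₐ[R] (A ⊗[R] L) ⊗[R] L) (MonoidAlgebra.single n (1 : R)) =
      ((1 : A) ⊗ₜ[R] MonoidAlgebra.single n (1 : R)) ⊗ₜ[R] MonoidAlgebra.single n (1 : R) := by
  let β' : L →ₐ[R] (A ⊗[R] L) ⊗[R] L := Algebra.TensorProduct.includeRight
  let β : L →ₐ[R] (A ⊗[R] L) ⊗[R] L :=
    (Algebra.TensorProduct.includeLeft).comp Algebra.TensorProduct.includeRight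
  show (toConv β' * toConv β) (MonoidAlgebra.single n 1) = _
  rw [MonoidAlgebra.convMul_algHom_single_one]
  show (1 : A ⊗[R] L) ⊗ₜ[R] MonoidAlgebra.single n (1 : R) *
    ((1 : A) ⊗ₜ[R] MonoidAlgebra.single n (1 : R)) ⊗ₜ[R] (1 : L) = _
  rw [Algebra.TensorProduct.tmul_mul_tmul, _root_.one_mul, _root_.mul_one]

/-- Conjugating twice is conjugating by the product. -/
theorem coassoc :
    (Algebra.TensorProduct.map (coact i) (AlgHom.id R L)).comp (coact i) =
      (Algebra.TensorProduct.lift
        ((Algebra.TensorProduct.includeLeft : A ⊗[R] L →ₐ[R] (A ⊗[R] L) ⊗[R] L).comp Algebra.TensorProduct.includeLeft)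
        prodPt
        fun _ _ => Commute.all _ _).comp (coact i) := by
  let α : A →ₐ[R] (A ⊗[R] L) ⊗[R] L := (Algebra.TensorProduct.includeLeft).comp Algebra.TensorProduct.includeLeft
  let β : L →ₐ[R] (A ⊗[R] L) ⊗[R] L := (Algebra.TensorProduct.includeLeft).comp Algebra.TensorProduct.includeRight
  let β' : L →ₐ[R] (A ⊗[R] L) ⊗[R] L := Algebra.TensorProduct.includeRight
  have hm : Algebra.TensorProduct.map (coact i) (AlgHom.id R L) =
      Algebra.TensorProduct.lift ((Algebra.TensorProduct.lift α β fun _ _ => Commute.all _ _).comp (coact i)) β'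
        fun _ _ => Commute.all _ _ := by
    have h1 : Algebra.TensorProduct.lift α β (fun _ _ => Commute.all _ _) = Algebra.TensorProduct.includeLeft :=
      Algebra.TensorProduct.ext (AlgHom.ext fun a => by simp [α]) (AlgHom.ext fun b => by simp [β])
    rw [h1]
    exact Algebra.TensorProduct.ext (AlgHom.ext fun a => by simp) (AlgHom.ext fun b => by simp [β'])
  rw [hm]
  refine pt_injective ?_
  let P := 𝟙 (sp R ((A ⊗[R] L) ⊗[R] L))
  have hγ : (prodPt : L →ₐ[R] (A ⊗[R] L) ⊗[R] L) = (toConv β' * toConv β).ofConv := rfl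
  rw [hγ]
  have h2 := pair_coact i P ((Algebra.TensorProduct.lift α β fun _ _ => Commute.all _ _).comp (coact i)) β'
  have h3 := pair_coact i P α β
  have h4 := pair_coact i P α (toConv β' * toConv β).ofConv
  simp only [P, Category.id_comp] at h2 h3 h4
  rw [h2, h3, h4, ← DiagRep.pt_mul_conv, MonObj.mul_comp, mul_inv_rev]
  simp only [_root_.mul_assoc]

/-- The coefficient of a character. -/
def coef (V : Type u) [AddCommGroup V] [Module R V] (n : Multiplicative M) : V ⊗[R] L →ₗ[R] V :=
  (TensorProduct.rid R V).toLinearMap ∘ₗ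
    TensorProduct.map LinearMap.id ((MonoidAlgebra.basis (Multiplicative M) R).coord n)

theorem coef_tmul_single (V : Type u) [AddCommGroup V] [Module R V] (n m : Multiplicative M) [Decidable (m = n)]
    (x : V) : coef (R := R) V n (x ⊗ₜ[R] MonoidAlgebra.single m (1 : R)) = if m = n then x else 0 := by
  classical
  simp only [coef, LinearMap.comp_apply, TensorProduct.map_tmul, LinearMap.id_apply, LinearEquiv.coe_coe,
    TensorProduct.rid_tmul, Module.Basis.coord_apply]
  rw [← MonoidAlgebra.basis_apply, Module.Basis.repr_self, Finsupp.single_apply]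
  split_ifs <;> simp

/-- The weight components are weight vectors. -/
theorem coact_wt (a : A) (n : Multiplicative M) :
    coact i (wt i a n) = wt i a n ⊗ₜ[R] MonoidAlgebra.single n (1 : R) := by
  classical
  have h := DFunLike.congr_fun (coassoc i) a
  rw [AlgHom.comp_apply, AlgHom.comp_apply, ← coact_eq i a] at h
  simp only [Finsupp.sum, map_sum, Algebra.TensorProduct.map_tmul, Algebra.TensorProduct.lift_tmul,
    prodPt_single, AlgHom.comp_apply, AlgHom.id_apply, MonoidAlgebra.basis_apply,
    Algebra.TensorProduct.includeLeft_apply, Algebra.TensorProduct.includeRight_apply] at h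
  have h2 := congrArg (coef (R := R) (A ⊗[R] L) n) h
  simp only [map_sum, Algebra.TensorProduct.tmul_mul_tmul, _root_.mul_one, _root_.one_mul, coef_tmul_single,
    Finset.sum_ite_eq'] at h2
  by_cases hn : n ∈ (wt i a).support
  · rwa [if_pos hn, if_pos hn] at h2
  · rw [Finsupp.notMem_support_iff.1 hn]; simp

/-- A function is the sum of its weight components. -/
theorem sum_wt (a : A) : (wt i a).sum (fun _ w => w) = a := by
  classical
  have h1 := pair_coact i (𝟙 (sp R A)) (AlgHom.id R A) ((Algebra.ofId R A).comp (Bialgebra.counitAlgHom R L))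
  simp only [Category.id_comp, DiagRep.pt_one, MonObj.one_comp, inv_one, _root_.one_mul, _root_.mul_one] at h1
  have h2 := DFunLike.congr_fun (pt_injective h1) a
  rw [AlgHom.comp_apply, lift_coact] at h2
  rw [AlgHom.id_apply] at h2
  conv_rhs => rw [← h2]
  refine Finset.sum_congr rfl fun m _ => ?_
  simp [MonoidAlgebra.counit_single]

/-- Conjugation fixes the unit. -/
theorem counit_wt (a : A) {n : Multiplicative M} (hn : n ≠ 1) :
    algebraMap R L (CoalgebraStruct.counit (R := R) (wt i a n)) = 0 := by
  classical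
  have h1 := pair_coact i (𝟙 (sp R L)) ((Algebra.ofId R L).comp (Bialgebra.counitAlgHom R A)) (AlgHom.id R L)
  simp only [Category.id_comp, DiagRep.pt_one, CoactBr.pt_id, _root_.mul_one, mul_inv_cancel] at h1
  rw [← DiagRep.pt_one] at h1
  have h2 := DFunLike.congr_fun (pt_injective h1) (wt i a n)
  rw [AlgHom.comp_apply, coact_wt, Algebra.TensorProduct.lift_tmul] at h2
  simp only [AlgHom.comp_apply, AlgHom.id_apply] at h2
  have h3 : ((CoalgebraStruct.counit (R := R) (wt i a n)) • MonoidAlgebra.single n (1 : R) : L) =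
      (CoalgebraStruct.counit (R := R) (wt i a n)) • (1 : L) := by
    rw [Algebra.smul_def, Algebra.smul_def, _root_.mul_one]
    exact h2
  have h4 := congrArg (fun t : L => t.coeff n) h3
  simp [MonoidAlgebra.one_def, hn] at h4
  rw [h4, map_zero]

end grading

section field

variable {k : Type u} [Field k] {A : Type u} [CommRing A] [HopfAlgebra k A] {M : Type} [AddCommGroup M]
  (i : sp k (MonoidAlgebra k (Multiplicative M)) ⟶ sp k A) [IsMonHom i]

theorem counit_wt_field (a : A) {n : Multiplicative M} (hn : n ≠ 1) :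
    CoalgebraStruct.counit (R := k) (wt i a n) = 0 :=
  FaithfulSMul.algebraMap_injective k (MonoidAlgebra k (Multiplicative M))
    ((counit_wt i a hn).trans (map_zero _).symm)

/-- If no weight outside a subgroup occurs in the cotangent space at the unit of a connected group, none occurs at all. -/
theorem wt_eq_zero [IsNoetherianRing A] [IsDomain A] {N : Type} [AddCommGroup N] (π : M →+ N)
    (h2 : ∀ (a : A) (n : Multiplicative M), π (Multiplicative.toAdd n) ≠ 0 →
      wt i a n ∈ (RingHom.ker (Bialgebra.counitAlgHom k A)) ^ 2)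
    (a : A) (n : Multiplicative M) (hn : π (Multiplicative.toAdd n) ≠ 0) : wt i a n = 0 := by
  classical
  let me : Ideal A := RingHom.ker (Bialgebra.counitAlgHom k A)
  let L' := MonoidAlgebra k (Multiplicative N)
  let πL : MonoidAlgebra k (Multiplicative M) →ₐ[k] L' :=
    MonoidAlgebra.lift k L' (Multiplicative M) ((MonoidAlgebra.of k (Multiplicative N)).comp (AddMonoidHom.toMultiplicative π))
  let c : A →ₐ[k] A ⊗[k] L' := (Algebra.TensorProduct.map (AlgHom.id k A) πL).comp (coact i)
  let J : ℕ → Ideal (A ⊗[k] L') := fun j => (me ^ j).map (Algebra.TensorProduct.includeLeft : A →ₐ[k] A ⊗[k] L')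
  let D : A → A ⊗[k] L' := fun x => c x - x ⊗ₜ[k] 1
  have hcw : ∀ (x : A) (m : Multiplicative M),
      c (wt i x m) = wt i x m ⊗ₜ[k] MonoidAlgebra.single (AddMonoidHom.toMultiplicative π m) (1 : k) := fun x m => by
    show Algebra.TensorProduct.map _ πL (coact i _) = _
    rw [coact_wt]
    simp only [Algebra.TensorProduct.map_tmul, AlgHom.id_apply, πL, MonoidAlgebra.lift_single, one_smul]
    rfl
  have hDw : ∀ (x : A) (m : Multiplicative M), D (wt i x m) =
      wt i x m ⊗ₜ[k] (MonoidAlgebra.single (AddMonoidHom.toMultiplicative π m) (1 : k) - 1) := fun x m => by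
    show c _ - _ = _
    rw [hcw, TensorProduct.tmul_sub]
  have hJt : ∀ (j : ℕ) (x : A) (l : L'), x ∈ me ^ j → x ⊗ₜ[k] l ∈ J j := fun j x l hx => by
    have := Ideal.mul_mem_right ((1 : A) ⊗ₜ[k] l) _
      (Ideal.mem_map_of_mem (Algebra.TensorProduct.includeLeft : A →ₐ[k] A ⊗[k] L') hx)
    simpa using this
  have hD1 : ∀ x ∈ me, D x ∈ J 2 := fun x _ => by
    have hx : D x = (wt i x).sum fun m w => w ⊗ₜ[k] (MonoidAlgebra.single (AddMonoidHom.toMultiplicative π m) (1 : k) - 1) := by
      conv_lhs => rw [← sum_wt i x]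
      simp only [D, Finsupp.sum, map_sum, TensorProduct.sum_tmul, ← Finset.sum_sub_distrib]
      exact Finset.sum_congr rfl fun m _ => hDw x m
    rw [hx]
    refine Submodule.sum_mem _ fun m _ => ?_
    by_cases hm : π (Multiplicative.toAdd m) = 0
    · have : AddMonoidHom.toMultiplicative π m = 1 := congrArg Multiplicative.ofAdd hm
      simp [this, MonoidAlgebra.one_def]
    · exact hJt 2 _ _ (h2 x m hm)
  have hmul : ∀ x y, D (x * y) = c x * D y + D x * (y ⊗ₜ[k] 1) := fun x y => by
    have : (x * y) ⊗ₜ[k] (1 : L') = (x ⊗ₜ[k] (1 : L')) * (y ⊗ₜ[k] (1 : L')) := by simp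
    simp only [D, map_mul, this]; ring
  have hJmul : ∀ j j', ∀ x ∈ J j, ∀ y ∈ J j', x * y ∈ J (j + j') := fun j j' x hx y hy => by
    have := Ideal.mul_mem_mul hx hy
    rwa [← Ideal.map_mul, ← pow_add] at this
  have hJle : ∀ j j', j ≤ j' → J j' ≤ J j := fun j j' h => Ideal.map_mono (Ideal.pow_le_pow_right h)
  have hDm : ∀ j, ∀ x ∈ me ^ (j + 1), D x ∈ J (j + 2) := by
    intro j
    induction j with
    | zero => intro x hx; exact hD1 x (by simpa using hx)
    | succ j ih =>
      intro x hx
      rw [pow_succ] at hx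
      refine Submodule.mul_induction_on hx (fun p hp q hq => ?_) fun p q hp hq => ?_
      · rw [hmul]
        refine (J _).add_mem ?_ ?_
        · have hcp : c p ∈ J (j + 1) := by
            have : c p = D p + p ⊗ₜ[k] 1 := by simp [D]
            rw [this]
            exact (J _).add_mem (hJle _ _ (by omega) (ih p hp)) (hJt _ _ _ hp)
          have := hJmul _ _ _ hcp _ (hD1 q hq)
          rwa [show j + 1 + 2 = j + 1 + 1 + 1 by omega] at this
        · have := hJmul _ _ _ (ih p hp) _ (hJt 1 q 1 (by simpa using hq))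
          rwa [show j + 2 + 1 = j + 1 + 2 by omega] at this
      · have : D (p + q) = D p + D q := by simp only [D, map_add, TensorProduct.add_tmul]; ring
        rw [this]; exact (J _).add_mem hp hq
  have hn1 : n ≠ 1 := fun h => hn (by rw [h]; exact map_zero π)
  have hall : ∀ j, wt i a n ∈ me ^ (j + 1) := by
    intro j
    induction j with
    | zero => simpa [me, RingHom.mem_ker] using counit_wt_field i a hn1
    | succ j ih =>
      have h := hDm j _ ih
      rw [hDw] at h
      let mk := Algebra.TensorProduct.map (Ideal.Quotient.mkₐ k (me ^ (j + 2))) (AlgHom.id k L')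
      have hker : J (j + 2) ≤ RingHom.ker mk := Ideal.map_le_iff_le_comap.2 fun x hx => by
        rw [Ideal.mem_comap, RingHom.mem_ker]
        simp [mk, Ideal.Quotient.eq_zero_iff_mem.2 hx]
      have h0 := congrArg (coef (R := k) (A ⧸ me ^ (j + 2)) (AddMonoidHom.toMultiplicative π n)) (hker h)
      have hne : AddMonoidHom.toMultiplicative π n ≠ 1 := fun e => hn (congrArg Multiplicative.toAdd e)
      simp only [mk, Algebra.TensorProduct.map_tmul, AlgHom.id_apply, TensorProduct.tmul_sub, map_sub, map_zero,
        MonoidAlgebra.one_def] at h0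
      rw [coef_tmul_single, coef_tmul_single, if_pos rfl, if_neg hne.symm, sub_zero] at h0
      exact Ideal.Quotient.eq_zero_iff_mem.1 h0
  have htop : me ≠ ⊤ := RingHom.ker_ne_top _
  have hinf : (⨅ j : ℕ, me ^ j) = ⊥ := Ideal.iInf_pow_eq_bot_of_isDomain me htop
  rw [← Ideal.mem_bot, ← hinf, Ideal.mem_iInf]
  intro j
  exact Ideal.pow_le_pow_right (Nat.le_succ j) (hall j)

end field

end Groth.Agent.LieTorus
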